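/-
Every non-degenerate alternating form of dimension `2r` is isometric to the standard `sympBilin r F`.
-/
import Mathlib
import Cfsg.Agent.S0752
import Cfsg.Agent.Lib.Classical.SympCount

set_option autoImplicit false

namespace Cfsg.Agent.Lib.Witt.SympModel

open Matrix Cfsg
open Cfsg.Agent.Lib.Classical.SympForm
open Cfsg.Agent.Lib.Classical.SympCount

/-- Standard model of a non-degenerate alternating form. -/
theorem exists_model {F U : Type*} [Field F] [AddCommGroup U] [Module F U] [FiniteDimensional F U]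
    (C : LinearMap.BilinForm F U) (hC : C.IsAlt) (hN : C.Nondegenerate) (r : ℕ)
    (hr : Module.finrank F U = 2 * r) :
    ∃ ψ : (Fin r ⊕ Fin r → F) ≃ₗ[F] U, ∀ x y, C (ψ x) (ψ y) = sympForm r F x y := by
  classical
  obtain ⟨m', k', b, h1, h2, h3, h4⟩ := Cfsg.Agent.S0752.result C hC
  have hk' : k' = 0 := by
    by_contra hne
    have hpos : 0 < k' := Nat.pos_of_ne_zero hne
    let j : Fin k' := ⟨0, hpos⟩
    have h5 : b (Sum.inr j) = 0 := hN.1 _ (h4 j)
    exact b.ne_zero _ h5
  subst hk'
  have hm' : m' = r := by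
    have := Module.finrank_eq_card_basis b
    simp only [Fintype.card_sum, Fintype.card_fin] at this
    omega
  subst hm'
  let e : Fin m' ⊕ Fin m' ≃ (Fin m' ⊕ Fin m') ⊕ Fin 0 :=
    { toFun := fun x => match x with
        | Sum.inl i => Sum.inl (Sum.inr i)
        | Sum.inr i => Sum.inl (Sum.inl i)
      invFun := fun x => match x with
        | Sum.inl (Sum.inr i) => Sum.inl i
        | Sum.inl (Sum.inl i) => Sum.inr i
        | Sum.inr j => j.elim0
      left_inv := by
        rintro (i | i) <;> rfl
      right_inv := by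
        rintro ((i | i) | j)
        · rfl
        · rfl
        · exact j.elim0 }
  let ψ : (Fin m' ⊕ Fin m' → F) ≃ₗ[F] U := (Pi.basisFun F (Fin m' ⊕ Fin m')).equiv b e
  have hψ : ∀ s, ψ (Pi.single s 1) = b (e s) := by
    intro s
    have := (Pi.basisFun F (Fin m' ⊕ Fin m')).equiv_apply s b e
    simpa using this
  have hanti : ∀ x y, C x y = - C y x := by
    intro x y
    have h := hC (x + y)
    simp only [map_add, LinearMap.add_apply, hC x, hC y, zero_add, add_zero] at h
    exact eq_neg_of_add_eq_zero_right h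
  have hbil : LinearMap.BilinForm.comp C (ψ : (Fin m' ⊕ Fin m' → F) →ₗ[F] U) (ψ : (Fin m' ⊕ Fin m' → F) →ₗ[F] U) = sympBilin m' F := by
    apply LinearMap.BilinForm.ext_basis (Pi.basisFun F (Fin m' ⊕ Fin m'))
    intro s t
    simp only [Pi.basisFun_apply, LinearMap.BilinForm.comp_apply, LinearEquiv.coe_coe, sympBilin_apply]
    rw [hψ, hψ, sympForm_single_single]
    rcases s with i | i <;> rcases t with j | j
    · simp [e, Matrix.J, h3]
    · simp only [e, Matrix.J, Matrix.fromBlocks_apply₁₂]
      show C (b (Sum.inl (Sum.inr i))) (b (Sum.inl (Sum.inl j))) = _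
      rw [hanti, h1]
      simp [Matrix.one_apply, eq_comm]
    · simp only [e, Matrix.J, Matrix.fromBlocks_apply₂₁]
      show C (b (Sum.inl (Sum.inl i))) (b (Sum.inl (Sum.inr j))) = _
      rw [h1]
      simp [Matrix.one_apply]
    · simp [e, Matrix.J, h2]
  refine ⟨ψ, fun x y => ?_⟩
  have := LinearMap.congr_fun (LinearMap.congr_fun hbil x) y
  simpa using this

end Cfsg.Agent.Lib.Witt.SympModel
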